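import Mathlib
import Cfsg.Agent.Lib.Helper69.APQ.Defs
import Cfsg.Agent.S3619

/-!
# APQ (= S4150), package [T3]

A primitive group of degree `p + 2` containing a `p`-cycle is `3`-transitive
(Jordan, via `Cfsg.Agent.S3619.result` with `Γ` the support of the `p`-cycle).
-/

set_option autoImplicit false

namespace Cfsg.Agent.Lib.Helper83.APQ

open Equiv Cfsg.Agent.Lib.Helper69.APQ

universe u

theorem pkgT3 : PkgT3.{u} := by
  intro β _ _ G p hp hcard hprim ⟨g, hgG, hct⟩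
  classical
  have hcyc : g.IsCycle := by
    rw [← Equiv.Perm.card_cycleType_eq_one, hct]; rfl
  have hsupp : g.support.card = p := by
    rw [← Equiv.Perm.sum_cycleType, hct]; simp
  have hΓn : (↑g.support : Set β).ncard = p := by
    rw [Set.ncard_coe_finset, hsupp]
  have hcardβ : Nat.card β = p + 2 := by rw [Nat.card_eq_fintype_card, hcard]
  have hmem : ∀ x : β, x ∈ SubMulAction.ofFixingSubgroup (↥G) ((↑g.support : Set β)ᶜ) ↔
      g x ≠ x := by
    intro x
    rw [SubMulAction.mem_ofFixingSubgroup_iff]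
    simp
  -- the powers of `g` lie in the fixing subgroup
  have hfix : ∀ i : ℤ, (⟨g, hgG⟩ : ↥G) ^ i ∈ fixingSubgroup (↥G) ((↑g.support : Set β)ᶜ) := by
    intro i
    rw [mem_fixingSubgroup_iff]
    intro z hz
    have hz' : g z = z := by simpa using hz
    show ((((⟨g, hgG⟩ : ↥G) ^ i : ↥G) : Perm β)) z = z
    rw [Subgroup.coe_zpow]
    exact Equiv.Perm.zpow_apply_eq_self_of_apply_eq_self hz' i
  have hJ : MulAction.IsPretransitive ↥(fixingSubgroup (↥G) ((↑g.support : Set β)ᶜ))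
      ↥(SubMulAction.ofFixingSubgroup (↥G) ((↑g.support : Set β)ᶜ)) := by
    refine ⟨fun x y => ?_⟩
    have hx : g x.1 ≠ x.1 := (hmem x.1).1 x.2
    have hy : g y.1 ≠ y.1 := (hmem y.1).1 y.2
    obtain ⟨i, hi⟩ := hcyc.sameCycle hx hy
    refine ⟨⟨(⟨g, hgG⟩ : ↥G) ^ i, hfix i⟩, ?_⟩
    apply Subtype.ext
    show ((((⟨g, hgG⟩ : ↥G) ^ i : ↥G) : Perm β)) x.1 = y.1
    rw [Subgroup.coe_zpow]
    exact hi
  have hcardΓ : Nat.card ↥(SubMulAction.ofFixingSubgroup (↥G) ((↑g.support : Set β)ᶜ)) = p := by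
    have h1 : Nat.card ↥(SubMulAction.ofFixingSubgroup (↥G) ((↑g.support : Set β)ᶜ)) =
        Nat.card ↥(((↑g.support : Set β)ᶜ)ᶜ) := rfl
    rw [h1, Nat.card_coe_set_eq, compl_compl, hΓn]
  have hJp : MulAction.IsPreprimitive ↥(fixingSubgroup (↥G) ((↑g.support : Set β)ᶜ))
      ↥(SubMulAction.ofFixingSubgroup (↥G) ((↑g.support : Set β)ᶜ)) :=
    MulAction.IsPreprimitive.of_prime_card (by rw [hcardΓ]; exact hp)
  have hqp : ∀ N : Subgroup ↥G, N.Normal → N ≠ ⊥ → MulAction.IsPretransitive ↥N β := by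
    intro N hN hne
    apply MulAction.IsQuasiPreprimitive.isPretransitive_of_normal (G := ↥G)
    obtain ⟨n, hnN, hn1⟩ := (Subgroup.ne_bot_iff_exists_ne_one (H := N)).1 hne |>.imp
      (fun n h => h) |> fun ⟨n, h⟩ => (⟨n.1, n.2, fun h1 => h (Subtype.ext h1)⟩ :
        ∃ n : ↥G, n ∈ N ∧ n ≠ 1)
    have hn1' : (n : Perm β) ≠ 1 := fun h => hn1 (Subtype.ext h)
    obtain ⟨b, hb⟩ : ∃ b : β, (n : Perm β) b ≠ b := by
      by_contra hcon
      push Not at hcon
      exact hn1' (Equiv.Perm.ext hcon)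
    intro huniv
    have hb' : b ∈ MulAction.fixedPoints (↥N) β := by rw [huniv]; exact Set.mem_univ b
    rw [MulAction.mem_fixedPoints] at hb'
    exact hb (hb' ⟨n, hnN⟩)
  have key := Cfsg.Agent.S3619.result (G := ↥G) (Ω := β) hqp (↑g.support : Set β)
    (by rw [hΓn]; exact hp.one_lt) (by rw [hΓn, hcardβ]; omega) hJ hJp
  rw [hcardβ, hΓn] at key
  have h3 : p + 2 - p + 1 = 3 := by omega
  rwa [h3] at key

end Cfsg.Agent.Lib.Helper83.APQ
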